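import Cfsg.Agent.H352.HM.Hol
import Cfsg.Agent.S0242

/-!
# S5175, `StQ` (helper352, task 3053)
-/

set_option autoImplicit false

namespace Cfsg.Agent.H352.HM

open Cfsg Cfsg.FusionSystem Subgroup Cfsg.Agent.H756.HM

theorem card_SL2_six {F : Type*} [Field F] [Fintype F] (h2 : Fintype.card F = 2) :
    Nat.card (Matrix.SpecialLinearGroup (Fin 2) F) = 6 := by
  have h1 := S0242.result (F := F) rfl 2 (by norm_num)
  rw [Fin.prod_univ_two, h2] at h1
  simpa using h1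

/-- elements of order 3 in a group of order 6 -/
theorem eq_of_order_three {G : Type*} [Group G] (h6 : Nat.card G = 6) {a b : G} (ha : a ^ 3 = 1) (ha1 : a ≠ 1)
    (hb : b ^ 3 = 1) (hb1 : b ≠ 1) : b = a ∨ b = a * a := by
  classical
  have ho : orderOf a = 3 := orderOf_eq_prime ha ha1
  have hidx : (zpowers a).index = 2 := by
    have h1 := (zpowers a).card_mul_index
    rw [Nat.card_zpowers, ho, h6] at h1
    omega
  have h1 : b ∈ zpowers a := by
    have h2 := mul_self_mem_of_index_two hidx b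
    have h3 := mul_mem h2 h2
    have h4 : b * b * (b * b) = b ^ 3 * b := by simp only [pow_succ, pow_zero, one_mul, mul_assoc]
    rwa [h4, hb, one_mul] at h3
  have hf : IsOfFinOrder a := isOfFinOrder_iff_pow_eq_one.2 ⟨3, by norm_num, ha⟩
  obtain ⟨k, hk, hk2⟩ := (hf.mem_zpowers_iff_mem_range_orderOf).1 h1 |> Finset.mem_image.1
  rw [ho, Finset.mem_range] at hk
  interval_cases k
  · exact absurd (by simpa using hk2.symm) hb1
  · left; simpa using hk2.symm
  · right; simpa [pow_two] using hk2.symm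

theorem mem_fixS {Ω : Type*} [Group Ω] {V : Subgroup Ω} {E : Subgroup (MulAut V)} {v : V} :
    (v : Ω) ∈ fixS V E ↔ ∀ e ∈ E, e v = v := by
  constructor
  · rintro ⟨u, hu, h⟩
    have h1 : u = v := Subtype.ext h
    rw [← h1]
    exact hu
  · intro h
    exact ⟨v, h, rfl⟩

theorem fixS_le {Ω : Type*} [Group Ω] {V : Subgroup Ω} {E : Subgroup (MulAut V)} : fixS V E ≤ V := by
  rintro _ ⟨u, -, rfl⟩
  exact u.2

theorem stQ : StQ := by
  classical
  intro Ω _ S _ hS F _ K _ _ V T x c hK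
  have hVS := c.V_le
  have hfV : Finite V := Finite.of_injective (inclusion hVS) (inclusion_injective hVS)
  have hN := c.nor
  have hC := c.cent
  have hel : ∀ v ∈ V, v * v = 1 := fun v hv => by have := c.el v hv; rwa [pow_two] at this
  have helV : ∀ v : V, v * v = 1 := fun v => Subtype.ext (hel v v.2)
  have hcomV : ∀ a b : V, a * b = b * a := fun a b => by
    have h1 := helV (a * b)
    have h2 : a * b = (a * b)⁻¹ := (inv_eq_of_mul_eq_one_left h1).symm
    rw [mul_inv_rev, inv_eq_of_mul_eq_one_left (helV a), inv_eq_of_mul_eq_one_left (helV b)] at h2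
    exact h2
  have hx := c.x_mem
  have hxn := c.x_not
  have hx2 : x * x ∈ T := by rw [← pow_two]; exact c.x_sq
  have hxT : ∀ t ∈ T, x * t * x⁻¹ ∈ T := fun t ht => (mem_normalizer_iff.1 c.x_nor t).1 ht
  -- the element of order three
  have h2p : Fact (Nat.Prime 2) := ⟨Nat.prime_two⟩
  have hchar : CharP K 2 := charP_of_card_eq_prime hK
  have h11 : (1 : K) + 1 = 0 := CharTwo.add_self_eq_zero 1
  have hm1 : (-1 : K) = 1 := CharTwo.neg_eq 1
  obtain ⟨m, hm⟩ : ∃ m : Matrix.SpecialLinearGroup (Fin 2) K, (m : Matrix (Fin 2) (Fin 2) K) = !![0, 1; 1, 1] :=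
    ⟨⟨!![0, 1; 1, 1], by simp [Matrix.det_fin_two, hm1]⟩, rfl⟩
  have hmm : ((m * m : Matrix.SpecialLinearGroup (Fin 2) K) : Matrix (Fin 2) (Fin 2) K) = !![1, 1; 1, 0] := by
    rw [Matrix.SpecialLinearGroup.coe_mul, hm, Matrix.mul_fin_two]
    simp [h11]
  have hm3 : m ^ 3 = 1 := by
    have h1 : m ^ 3 = m * m * m := by simp only [pow_succ, pow_zero, one_mul]
    rw [h1]
    apply Subtype.ext
    show ((m * m * m : Matrix.SpecialLinearGroup (Fin 2) K) : Matrix (Fin 2) (Fin 2) K) =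
      ((1 : Matrix.SpecialLinearGroup (Fin 2) K) : Matrix (Fin 2) (Fin 2) K)
    rw [Matrix.SpecialLinearGroup.coe_mul, hmm, hm, Matrix.mul_fin_two, Matrix.SpecialLinearGroup.coe_one,
      Matrix.one_fin_two]
    simp [h11]
  have hmne : m ≠ 1 := by
    intro h
    have h1 := congrArg (fun a : Matrix.SpecialLinearGroup (Fin 2) K => (a : Matrix (Fin 2) (Fin 2) K) 0 1) h
    simp [hm] at h1
  obtain ⟨αE, hαE⟩ : ∃ a : c.E, c.ρ.symm m = a := ⟨_, rfl⟩
  have hραE : c.ρ αE = m := by rw [← hαE]; exact c.ρ.apply_symm_apply m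
  have hαE3 : αE ^ 3 = 1 := by rw [← hαE, ← map_pow, hm3, map_one]
  have hαE1 : αE ≠ 1 := fun h => hmne (by rw [← hραE, h, map_one])
  obtain ⟨α, hα⟩ : ∃ a : MulAut V, (αE : MulAut V) = a := ⟨_, rfl⟩
  have hαmem : α ∈ c.E := hα ▸ αE.2
  have hα3 : α ^ 3 = 1 := by rw [← hα]; exact congrArg Subtype.val hαE3
  have hα1 : α ≠ 1 := fun h => hαE1 (Subtype.ext (hα.trans h))
  have hααα : ∀ v, α (α (α v)) = v := fun v => by
    have h1 : (α ^ 3) v = v := by rw [hα3]; rfl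
    have h2 : (α ^ 3) v = α (α (α v)) := by
      simp only [pow_succ, pow_zero, one_mul, MulAut.mul_apply]
    rw [← h2, h1]
  have hord : orderOf α = 3 := orderOf_eq_prime hα3 hα1
  have hαF : α ∈ F.autGroup V := c.E_le hαmem
  have hker : ∀ v : V, c.ψ v = 1 ↔ ∀ e ∈ c.E, e v = v := fun v => (c.ψ_ker v).trans mem_fixS
  have hfixα : ∀ v : V, α v = v → c.ψ v = 1 := fun v hv => by
    have h1 := c.ψ_eq αE v
    rw [hα, hv, hραE, hm] at h1
    have h2 := congrFun h1 0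
    have h3 := congrFun h1 1
    simp [Matrix.mulVec, Matrix.vecHead, Matrix.vecTail] at h2 h3
    have h4 : Multiplicative.toAdd (c.ψ v) = 0 := by
      funext i
      fin_cases i
      · exact h3
      · exact h2 ▸ h3
    exact h4
  -- the norm
  let N : V →* V := MonoidHom.mk' (fun v => v * α v * α (α v)) fun a b => by
    rw [map_mul, map_mul]
    calc a * b * (α a * α b) * (α (α a) * α (α b)) = a * (b * α a) * (α b * α (α a)) * α (α b) := by group
      _ = a * α a * (b * α (α a)) * α b * α (α b) := by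
        rw [hcomV b (α a), hcomV (α b) (α (α a))]; group
      _ = a * α a * α (α a) * (b * α b * α (α b)) := by
        rw [hcomV b (α (α a))]; group
  have hNv : ∀ v, N v = v * α v * α (α v) := fun v => rfl
  have hαN : ∀ v, α (N v) = N v := fun v => by
    rw [hNv, map_mul, map_mul, hααα]
    rw [hcomV (α v * α (α v)) v, mul_assoc]
  have hNfix : ∀ v : V, c.ψ v = 1 → N v = v := fun v hv => by
    have h1 : α v = v := (hker v).1 hv α hαmem
    rw [hNv, h1, h1, helV, one_mul]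
  -- orders
  have hcK : Nat.card (Multiplicative (Fin 2 → K)) = 4 := by
    rw [Nat.card_congr Multiplicative.toAdd, Nat.card_eq_fintype_card, Fintype.card_fun, hK, Fintype.card_fin]
    norm_num
  have hcV : Nat.card V = 4 * Nat.card c.ψ.ker := by
    have h1 := c.ψ.ker.card_mul_index
    rw [index_ker, MonoidHom.range_eq_top.2 c.ψ_surj, card_top, hcK] at h1
    omega
  have hD : fixS V c.E = c.ψ.ker.map V.subtype := by
    ext u
    constructor
    · intro hu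
      refine ⟨⟨u, fixS_le hu⟩, ?_, rfl⟩
      exact (c.ψ_ker _).2 hu
    · rintro ⟨v, hv, rfl⟩
      exact (c.ψ_ker v).1 hv
  have hcD : Nat.card (fixS V c.E) = Nat.card c.ψ.ker := by
    rw [hD]
    exact Subgroup.card_map_of_injective V.subtype_injective
  have hmD : ∀ v : V, (v : Ω) ∈ fixS V c.E ↔ c.ψ v = 1 := fun v => (c.ψ_ker v).symm
  -- `V₂`
  have hTS : T ≤ S := by rw [← hN]; exact inf_le_left
  have hTVn : ∀ t ∈ T, t ∈ normalizer (V : Set Ω) := fun t ht => by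
    rw [← hN] at ht
    exact (Subgroup.mem_inf.1 ht).2
  have hTV : ∀ t ∈ T, ∀ v ∈ V, t * v * t⁻¹ ∈ V := fun t ht v hv => (mem_normalizer_iff.1 (hTVn t ht) v).1 hv
  have hVT : V ≤ T := fun v hv => by
    rw [← hN]
    exact Subgroup.mem_inf.2 ⟨hVS hv, le_normalizer hv⟩
  have hCV : ∀ s ∈ S, (∀ v ∈ V, s * v = v * s) → s ∈ V := fun s hs h => by
    rw [← hC]
    exact Subgroup.mem_inf.2 ⟨hs, mem_centralizer_iff.2 fun v hv => (h v hv).symm⟩
  obtain ⟨V₂, hV₂⟩ : ∃ V₂, cj x V = V₂ := ⟨_, rfl⟩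
  have m2 : ∀ y, y ∈ V₂ ↔ x⁻¹ * y * x ∈ V := fun y => by rw [← hV₂]; exact mem_cj
  have hV2T : V₂ ≤ T := fun y hy => by
    have h1 := hxT _ (hVT ((m2 y).1 hy))
    have h2 : x * (x⁻¹ * y * x) * x⁻¹ = y := by group
    rwa [h2] at h1
  have sw1 : ∀ v ∈ V, x * v * x⁻¹ ∈ V₂ := fun v hv => by
    rw [m2]
    have h2 : x⁻¹ * (x * v * x⁻¹) * x = v := by group
    rwa [h2]
  have sw2 : ∀ u ∈ V₂, x * u * x⁻¹ ∈ V := fun u hu => by
    have h1 := hTV _ hx2 _ ((m2 u).1 hu)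
    have h2 : x * x * (x⁻¹ * u * x) * (x * x)⁻¹ = x * u * x⁻¹ := by group
    rwa [h2] at h1
  have sw3 : ∀ v ∈ V, x⁻¹ * v * x ∈ V₂ := fun v hv => by
    rw [m2]
    have h1 := hTV _ (T.inv_mem hx2) _ hv
    have h2 : (x * x)⁻¹ * v * (x * x)⁻¹⁻¹ = x⁻¹ * (x⁻¹ * v * x) * x := by
      rw [inv_inv, mul_inv_rev]
      simp only [mul_assoc]
    rwa [h2] at h1
  have el2 : ∀ u ∈ V₂, u * u = 1 := fun u hu => by
    have h1 := hel _ ((m2 u).1 hu)
    have h2 : x⁻¹ * u * x * (x⁻¹ * u * x) = x⁻¹ * (u * u) * x := by group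
    rw [h2] at h1
    have h3 : u * u = x * (x⁻¹ * (u * u) * x) * x⁻¹ := by group
    rw [h3, h1]
    group
  have hAcard : Nat.card (autInducedBy V₂ V) = 2 := by rw [← hV₂, c.A_card, hK]
  have hAle : autInducedBy V₂ V ≤ c.E := hV₂ ▸ c.A_le
  have hi2 : ∀ u ∈ V₂, ∀ v ∈ V₂, u ∉ V → v ∉ V → u * v ∈ V := by
    intro u hu v hv huV hvV
    obtain ⟨τu, hτu⟩ := H802.exists_conjAut (hTVn u (hV2T hu))
    obtain ⟨τv, hτv⟩ := H802.exists_conjAut (hTVn v (hV2T hv))
    have hne : ∀ (s : Ω), s ∈ V₂ → s ∉ V → ∀ τ : MulAut V, (∀ w : V, ((τ w : V) : Ω) = s * w * s⁻¹) → τ ≠ 1 := by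
      intro s hs hsV τ hτ h
      apply hsV
      apply hCV s (hTS (hV2T hs))
      intro w hw
      have h1 := hτ ⟨w, hw⟩
      rw [h] at h1
      have h2 : w = s * w * s⁻¹ := h1
      rw [eq_mul_inv_iff_mul_eq] at h2
      exact h2.symm
    obtain ⟨a, ha, hau⟩ := (Nat.card_eq_two_iff' (1 : autInducedBy V₂ V)).1 hAcard
    have hmu : τu ∈ autInducedBy V₂ V := (H802.mem_autInducedBy_iff _ _ _).2 ⟨u, hu, hτu⟩
    have hmv : τv ∈ autInducedBy V₂ V := (H802.mem_autInducedBy_iff _ _ _).2 ⟨v, hv, hτv⟩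
    have h1 := hau ⟨τu, hmu⟩ fun h => hne u hu huV τu hτu (congrArg Subtype.val h)
    have h2 := hau ⟨τv, hmv⟩ fun h => hne v hv hvV τv hτv (congrArg Subtype.val h)
    have h3 : τu = τv := congrArg Subtype.val (h1.trans h2.symm)
    apply hCV _ (hTS (hV2T (V₂.mul_mem hu hv)))
    intro w hw
    have h4 := hτu ⟨w, hw⟩
    rw [h3, hτv] at h4
    have h5 : v * w * v⁻¹ = u * w * u⁻¹ := h4
    have hvv : v⁻¹ = v := inv_eq_of_mul_eq_one_left (el2 v hv)
    have huu : u⁻¹ = u := inv_eq_of_mul_eq_one_left (el2 u hu)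
    have h6 : u * v * w = u * (v * w * v⁻¹) * v := by group
    have h7 : u * (u * w * u⁻¹) * v = (u * u) * w * (u⁻¹ * v) := by group
    rw [h6, h5, h7, el2 u hu, one_mul, huu]
  have hi : ∀ u ∈ V, ∀ v ∈ V, u ∉ V₂ → v ∉ V₂ → u * v ∈ V₂ := by
    intro u hu v hv huV hvV
    have hne : ∀ s ∈ V, s ∉ V₂ → x * s * x⁻¹ ∉ V := fun s _ hs h => hs (by
      have h1 := sw3 _ h
      have h2 : x⁻¹ * (x * s * x⁻¹) * x = s := by group
      rwa [h2] at h1)
    have h1 := sw3 _ (hi2 _ (sw1 u hu) _ (sw1 v hv) (hne u hu huV) (hne v hv hvV))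
    have h2 : x⁻¹ * (x * u * x⁻¹ * (x * v * x⁻¹)) * x = u * v := by group
    rwa [h2] at h1
  have hVne : ¬ V ≤ V₂ := by
    intro hle
    apply hxn
    have h1 : V = V₂ := by
      have hf2 : Finite V₂ := Finite.of_injective (inclusion (hV2T.trans hTS)) (inclusion_injective _)
      apply Subgroup.eq_of_le_of_card_ge hle
      rw [← hV₂]
      exact (Nat.card_congr (V.equivMapOfInjective _ (MulAut.conj x).injective).toEquiv).ge
    rw [← hN]
    refine Subgroup.mem_inf.2 ⟨hx, mem_normalizer_iff.2 fun v => ?_⟩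
    constructor
    · intro hv
      rw [h1]
      exact sw1 v hv
    · intro hv
      have h2 : x⁻¹ * (x * v * x⁻¹) * x = v := by group
      have h3 : x * v * x⁻¹ ∈ V₂ := h1 ▸ hv
      rw [m2, h2] at h3
      exact h3
  have hZcard : Nat.card (V ⊓ V₂ : Subgroup Ω) * 2 = Nat.card V := by
    have h1 : (V ⊓ V₂).relIndex V = 2 := by
      obtain ⟨w, hwV, hw2⟩ := SetLike.not_le_iff_exists.1 hVne
      rw [relIndex_eq_two_iff]
      refine ⟨w, hwV, fun v hv => ?_⟩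
      by_cases h : v ∈ V₂
      · right
        exact ⟨⟨hv, h⟩, fun h2 => hw2 ((Subgroup.mul_mem_cancel_left V₂ h).1 (Subgroup.mem_inf.1 h2).2)⟩
      · left
        exact ⟨⟨V.mul_mem hv hwV, hi v hv w hwV h hw2⟩, fun h2 => h (Subgroup.mem_inf.1 h2).2⟩
    have h2 := relIndex_mul_card (inf_le_left : V ⊓ V₂ ≤ V)
    rw [h1] at h2
    omega
  -- `D ≤ Z`, `D^x ≤ Z`
  have hDV : ∀ d ∈ fixS V c.E, d ∈ V := fun d hd => fixS_le hd
  have hDV2 : ∀ d ∈ fixS V c.E, d ∈ V₂ := fun d hd => by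
    rw [m2]
    have hdS := hVS (hDV d hd)
    apply hCV _ (S.mul_mem (S.mul_mem (S.inv_mem hx) hdS) hx)
    intro v hv
    obtain ⟨τ, hτ⟩ := H802.exists_conjAut (hTVn _ (hV2T (sw1 v hv)))
    have hm : τ ∈ autInducedBy V₂ V := (H802.mem_autInducedBy_iff _ _ _).2 ⟨_, sw1 v hv, hτ⟩
    have h1 := (mem_fixS (v := ⟨d, hDV d hd⟩)).1 hd τ (hAle hm)
    have h2 := hτ ⟨d, hDV d hd⟩
    rw [h1] at h2
    have h3 : d = x * v * x⁻¹ * d * (x * v * x⁻¹)⁻¹ := h2
    rw [eq_mul_inv_iff_mul_eq] at h3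
    have h4 : x⁻¹ * d * x * v = x⁻¹ * (d * (x * v * x⁻¹)) * x := by group
    rw [h4, h3]
    group
  have hDxV : ∀ d ∈ fixS V c.E, x * d * x⁻¹ ∈ V := fun d hd => sw2 d (hDV2 d hd)
  have hDxV2 : ∀ d ∈ fixS V c.E, x * d * x⁻¹ ∈ V₂ := fun d hd => sw1 d (hDV d hd)
  have hfZ : Finite (V ⊓ V₂ : Subgroup Ω) := Finite.of_injective (inclusion inf_le_left) (inclusion_injective _)
  have hDsmall : Nat.card c.ψ.ker ≤ 2 := by
    have h1 : fixS V c.E ≤ V ⊓ V₂ := fun d hd => ⟨hDV d hd, hDV2 d hd⟩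
    have h2 : cj x (fixS V c.E) ≤ V ⊓ V₂ := by
      rintro _ ⟨d, hd, rfl⟩
      exact ⟨hDxV d hd, hDxV2 d hd⟩
    have h3 := relIndex_mul_card h1
    have h4 := relIndex_mul_card h2
    have h5 : Nat.card (cj x (fixS V c.E)) = Nat.card (fixS V c.E) :=
      (Nat.card_congr ((fixS V c.E).equivMapOfInjective _ (MulAut.conj x).injective).toEquiv).symm
    have h6 := relIndex_inf_le (H := fixS V c.E) (K := cj x (fixS V c.E)) (L := V ⊓ V₂)
    rw [c.DD, relIndex_bot_left] at h6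
    have hpos : 0 < Nat.card c.ψ.ker := Nat.card_pos
    rw [hcD] at h3
    rw [h5, hcD] at h4
    have h7 : Nat.card (V ⊓ V₂ : Subgroup Ω) = 2 * Nat.card c.ψ.ker := by omega
    rw [h7] at h3 h4 h6
    have h8 := Nat.eq_of_mul_eq_mul_right hpos h3
    have h9 := Nat.eq_of_mul_eq_mul_right hpos h4
    rw [h8, h9] at h6
    omega
  have hDpos : 0 < Nat.card c.ψ.ker := Nat.card_pos
  rcases (by omega : Nat.card c.ψ.ker = 1 ∨ Nat.card c.ψ.ker = 2) with h1 | hD2
  · left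
    exact ⟨by rw [hcV, h1], α, hαF, hord⟩
  right
  rw [hD2] at hcV hcD
  obtain ⟨d, hdD, hd1, hDe⟩ : ∃ d : Ω, d ∈ fixS V c.E ∧ d ≠ 1 ∧ ∀ u ∈ fixS V c.E, u ≠ 1 → u = d := by
    obtain ⟨a, ha, hau⟩ := (Nat.card_eq_two_iff' (1 : fixS V c.E)).1 hcD
    refine ⟨a, a.2, fun h => ha (Subtype.ext h), fun u hu hu1 => ?_⟩
    exact congrArg Subtype.val (hau ⟨u, hu⟩ fun h => hu1 (congrArg Subtype.val h))
  -- `T` acts
  have hTE : ∀ t ∈ T, ∀ τ : MulAut V, (∀ w : V, ((τ w : V) : Ω) = t * w * t⁻¹) → ∀ e ∈ c.E, τ⁻¹ * e * τ ∈ c.E := by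
    intro t ht τ hτ e he
    have h1 : τ ∈ autInducedBy T V := (H802.mem_autInducedBy_iff _ _ _).2 ⟨t, ht, hτ⟩
    have h2 := c.T_nor τ⁻¹ (inv_mem h1) e he
    rwa [inv_inv] at h2
  have hdT : ∀ t ∈ T, t * d * t⁻¹ = d := by
    intro t ht
    obtain ⟨τ, hτ⟩ := H802.exists_conjAut (hTVn t ht)
    have hdV := hDV d hdD
    have h1 : ((τ ⟨d, hdV⟩ : V) : Ω) ∈ fixS V c.E := by
      rw [mem_fixS]
      intro e he
      have h2 := (mem_fixS (v := ⟨d, hdV⟩)).1 hdD _ (hTE t ht τ hτ e he)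
      have h3 : e (τ ⟨d, hdV⟩) = τ ((τ⁻¹ * e * τ) ⟨d, hdV⟩) := by
        simp only [MulAut.mul_apply]
        exact (MulAut.apply_inv_self _ τ _).symm
      rw [h3, h2]
    rw [hτ] at h1
    apply hDe _ h1
    intro h
    apply hd1
    have h2 : t * d * t⁻¹ = 1 := h
    have h3 : d = t⁻¹ * (t * d * t⁻¹) * t := by group
    rw [h3, h2]
    group
  have hcE : Nat.card c.E = 6 := by rw [Nat.card_congr c.ρ.toEquiv, card_SL2_six hK]
  have hNT : ∀ t ∈ T, ∀ τ : MulAut V, (∀ w : V, ((τ w : V) : Ω) = t * w * t⁻¹) → ∀ v, N v = 1 → N (τ v) = 1 := by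
    intro t ht τ hτ v hv
    have h1 := hTE t ht τ hτ α hαmem
    have h3 : (τ⁻¹ * α * τ) ^ 3 = 1 := by
      have : (τ⁻¹ * α * τ) ^ 3 = τ⁻¹ * α ^ 3 * τ := by
        simp only [pow_succ, pow_zero, one_mul]
        group
      rw [this, hα3]
      group
    have h4 : τ⁻¹ * α * τ ≠ 1 := by
      intro h
      apply hα1
      have : α = τ * (τ⁻¹ * α * τ) * τ⁻¹ := by group
      rw [this, h]
      group
    have h5 := eq_of_order_three hcE (a := ⟨α, hαmem⟩) (b := ⟨τ⁻¹ * α * τ, h1⟩)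
      (Subtype.ext hα3) (fun h => hα1 (congrArg Subtype.val h)) (Subtype.ext h3)
      (fun h => h4 (congrArg Subtype.val h))
    have hcase : ∀ v, (τ⁻¹ * α * τ) v = τ⁻¹ (α (τ v)) := fun v => rfl
    have hατ : ∀ v, α (τ v) = τ ((τ⁻¹ * α * τ) v) := fun v => by
      rw [hcase]
      exact (MulAut.apply_inv_self _ τ _).symm
    rw [hNv] at hv ⊢
    rcases h5 with h5 | h5
    · have h6 : τ⁻¹ * α * τ = α := congrArg Subtype.val h5
      rw [hατ, h6, hατ, h6, ← map_mul, ← map_mul, hv, map_one]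
    · have h6 : τ⁻¹ * α * τ = α * α := congrArg Subtype.val h5
      rw [hατ, h6, hατ, h6, ← map_mul, ← map_mul]
      have h7 : (α * α) v = α (α v) := rfl
      have h8 : (α * α) ((α * α) v) = α v := by
        show α (α (α (α v))) = α v
        rw [hααα]
      rw [h8, h7, mul_assoc, hcomV (α (α v)) (α v), ← mul_assoc, hv, map_one]
  -- `W`
  have hNker : Nat.card N.ker = 4 := by
    have h1 : N.range = c.ψ.ker := by
      ext v
      constructor
      · rintro ⟨u, rfl⟩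
        exact hfixα _ (hαN u)
      · intro hv
        exact ⟨v, hNfix v hv⟩
    have h2 := N.ker.card_mul_index
    rw [index_ker, h1, hD2] at h2
    omega
  obtain ⟨W, hW⟩ : ∃ W, N.ker.map V.subtype = W := ⟨_, rfl⟩
  have mW : ∀ v : V, (v : Ω) ∈ W ↔ N v = 1 := fun v => by
    rw [← hW]
    constructor
    · rintro ⟨u, hu, h⟩
      have h1 : u = v := Subtype.ext h
      rw [← h1]
      exact hu
    · intro h
      exact ⟨v, h, rfl⟩
  have hW4 : Nat.card W = 4 := by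
    rw [← hW, ← hNker]
    exact Subgroup.card_map_of_injective V.subtype_injective
  have hWV : W ≤ V := by
    rw [← hW]
    exact map_subtype_le _
  have hWT : ∀ t ∈ T, ∀ w ∈ W, t * w * t⁻¹ ∈ W := by
    intro t ht w hw
    obtain ⟨τ, hτ⟩ := H802.exists_conjAut (hTVn t ht)
    have h1 := hNT t ht τ hτ ⟨w, hWV hw⟩ ((mW _).1 hw)
    have h2 := (mW _).2 h1
    rwa [hτ] at h2
  have hdW : d ∉ W := by
    intro h
    have h1 := (mW ⟨d, hDV d hdD⟩).1 h
    rw [hNfix _ ((hmD _).1 hdD)] at h1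
    exact hd1 (congrArg Subtype.val h1)
  have hxd : x * d * x⁻¹ ≠ d := by
    intro h
    have h1 : d ∈ fixS V c.E ⊓ cj x (fixS V c.E) := by
      refine ⟨hdD, mem_cj.2 ?_⟩
      have h2 : x⁻¹ * d * x = d := by
        have h3 : x⁻¹ * (x * d * x⁻¹) * x = d := by group
        rw [h] at h3
        exact h3
      rw [h2]
      exact hdD
    rw [c.DD, mem_bot] at h1
    exact hd1 h1
  obtain ⟨hS32, r, w, h1, h2, h3, h4, h5, h6, h7, h8, h9⟩ := hol hS hVS hN hC hel hx hxT hxn hx2 (by rw [hcV])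
    (by rw [hV₂]; exact hi) hW4 hWV hWT hd1 hdW (hDV d hdD) (by rw [hV₂]; exact hDV2 d hdD) hdT hxd
  refine ⟨hS32, r, w, d, h1, h2, h3, h4, h5, h6, h7, h8, α, hαF, hord, fun v hv => ?_, fun v hv => ?_⟩
  · have h10 := (mem_fixS (v := v) (E := c.E)).1 (by rw [hv]; exact hdD)
    exact h10 α hαmem
  · rw [h9] at hv ⊢
    rw [mW] at hv ⊢
    rw [hNv] at hv ⊢
    have h10 : α v * α (α v) * α (α (α v)) = α (v * α v * α (α v)) := by
      rw [map_mul, map_mul]
    rw [h10, hv, map_one]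

end Cfsg.Agent.H352.HM
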